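import Mathlib
import Groth.Agent.Goren.Artin
import Groth.Agent.Goren.Ring
import Groth.Agent.Goren.LCI
import Groth.Agent.GrGor.Core

/-!
Semigroup rings of numerical semigroups: the socle modulo a monomial, and lifting the Gorenstein property along
hypersurfaces.
-/

set_option autoImplicit false
set_option linter.style.haveILetI false
set_option backward.isDefEq.respectTransparency false

universe u

open Polynomial IsLocalRing

namespace Groth.Agent.GorSect

variable (k : Type u) [Field k] (H : AddSubmonoid ℕ)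

theorem isLocalRing_of_primes_eq {A : Type u} [CommRing A] [Nontrivial A] (M₀ : Ideal A)
    (h : ∀ P : Ideal A, P.IsPrime → P = M₀) : IsLocalRing A := by
  obtain ⟨M, hM⟩ := Ideal.exists_maximal A
  exact IsLocalRing.of_unique_max_ideal ⟨M, hM, fun P hP => (h P hP.isPrime).trans (h M hM.isPrime).symm⟩

/-- The semigroup ring of `H` as the polynomials supported in `H`. -/
def sgRing : Subalgebra k k[X] where
  carrier := {f | ∀ n, f.coeff n ≠ 0 → n ∈ H}
  mul_mem' {f g} hf hg n hn := by
    rw [coeff_mul] at hn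
    obtain ⟨x, hx, hne⟩ := Finset.exists_ne_zero_of_sum_ne_zero hn
    obtain ⟨h1, h2⟩ := mul_ne_zero_iff.1 hne
    exact Finset.HasAntidiagonal.mem_antidiagonal.1 hx ▸ add_mem (hf _ h1) (hg _ h2)
  add_mem' {f g} hf hg n hn := by
    rw [coeff_add] at hn
    by_contra hc
    exact hn (by rw [not_not.1 (mt (hf n) hc), not_not.1 (mt (hg n) hc), add_zero])
  algebraMap_mem' c n hn := by
    rw [Polynomial.algebraMap_apply, coeff_C] at hn
    split_ifs at hn with h
    · exact h ▸ zero_mem H
    · exact absurd rfl hn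

theorem monomial_mem_sgRing {n : ℕ} (hn : n ∈ H) (c : k) : monomial n c ∈ sgRing k H := fun m hm => by
  rw [coeff_monomial] at hm
  split_ifs at hm with h
  · exact h ▸ hn
  · exact absurd rfl hm

/-- The constant term. -/
noncomputable def ev0 : ↥(sgRing k H) →+* k := Polynomial.constantCoeff.comp (sgRing k H).val.toRingHom

theorem ev0_apply (f : ↥(sgRing k H)) : ev0 k H f = f.1.coeff 0 := rfl

theorem ev0_surjective : Function.Surjective (ev0 k H) := fun c =>
  ⟨algebraMap k _ c, by simp [ev0, Polynomial.algebraMap_apply]⟩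

/-- The origin. -/
noncomputable def origin : Ideal ↥(sgRing k H) := RingHom.ker (ev0 k H)

instance : (origin k H).IsMaximal := RingHom.ker_isMaximal_of_surjective _ (ev0_surjective k H)

/-- Membership of integers in `H`. -/
def InH (n : ℤ) : Prop := ∃ a ∈ H, (a : ℤ) = n

variable {H} in
theorem inH_natCast {n : ℕ} : InH H (n : ℤ) ↔ n ∈ H :=
  ⟨fun ⟨a, ha, e⟩ => Int.ofNat.inj e ▸ ha, fun h => ⟨n, h, rfl⟩⟩

/-- Pseudo-Frobenius numbers. -/
def IsPF (x : ℤ) : Prop := ¬ InH H x ∧ ∀ g ∈ H, 0 < g → InH H (x + g)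

/-- Symmetry. -/
def IsSym : Prop := ∃ d : ℤ, ∀ n : ℤ, InH H n ↔ ¬ InH H (d - n)

variable {H} {N : ℕ} (hN : ∀ n, N ≤ n → n ∈ H)

include hN in
theorem exists_frob : ∃ F : ℤ, ¬ InH H F ∧ ∀ n : ℤ, F < n → InH H n := by
  obtain ⟨F, hF, hmax⟩ := Int.exists_greatest_of_bdd (P := fun n => ¬ InH H n)
    ⟨(N : ℤ), fun z hz => by
      by_contra hlt
      obtain ⟨z, rfl⟩ : ∃ m : ℕ, z = m := ⟨z.toNat, by omega⟩
      exact hz (inH_natCast.2 (hN z (by omega)))⟩
    ⟨-1, fun ⟨a, _, e⟩ => by omega⟩
  exact ⟨F, hF, fun n hn => by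
    by_contra h
    have := hmax n h
    omega⟩

include hN in
/-- Symmetric semigroups have one pseudo-Frobenius number and conversely. -/
theorem isSym_iff : IsSym H ↔ ∀ x y : ℤ, IsPF H x → IsPF H y → x = y := by
  obtain ⟨F, hF, hgt⟩ := exists_frob hN
  have hPF : IsPF H F := ⟨hF, fun g _ hg => hgt _ (by omega)⟩
  constructor
  · rintro ⟨d, hd⟩
    have h0 : InH H 0 := ⟨0, zero_mem H, rfl⟩
    have hd' : ¬ InH H d := by simpa using (hd 0).1 h0
    have hdF : ∀ x, IsPF H x → x = d := by
      rintro x ⟨hx, hx'⟩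
      obtain ⟨g, hg, hge⟩ : InH H (d - x) := by
        by_contra h
        exact hx ((hd x).2 h)
      rcases Nat.eq_zero_or_pos g with rfl | hpos
      · omega
      · exact absurd (by simpa [hge] using hx' g hg hpos) hd'
    exact fun x y hx hy => (hdF x hx).trans (hdF y hy).symm
  · intro h
    refine ⟨F, fun n => ⟨fun hn hn' => ?_, fun hn => ?_⟩⟩
    · obtain ⟨a, ha, rfl⟩ := hn
      obtain ⟨b, hb, hb'⟩ := hn'
      exact hF ⟨a + b, add_mem ha hb, by push_cast; omega⟩
    · by_contra hn0
      classical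
      obtain ⟨g, ⟨hg, hgn⟩, hmax⟩ := Int.exists_greatest_of_bdd (P := fun g : ℤ => InH H g ∧ ¬ InH H (n + g))
        ⟨F - n, fun z hz => by
          by_contra hlt
          exact hz.2 (hgt _ (by omega))⟩ ⟨0, ⟨0, zero_mem H, rfl⟩, by simpa using hn0⟩
      have hx : IsPF H (n + g) := ⟨hgn, fun g' hg' hpos => by
        by_contra hc
        obtain ⟨a, ha, rfl⟩ := hg
        have := hmax (a + g' : ℕ) ⟨⟨a + g', add_mem ha hg', rfl⟩, by push_cast; rwa [← add_assoc]⟩
        push_cast at this
        omega⟩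
      exact hn (by rwa [show F - n = g by have := h _ _ hx hPF; omega])

variable (h : ℕ) (hh : h ∈ H) (hpos : 0 < h)

/-- The monomial of degree `h`. -/
noncomputable def mon (n : ℕ) (hn : n ∈ H) : ↥(sgRing k H) := ⟨monomial n 1, monomial_mem_sgRing k H hn 1⟩

theorem coeff_mon (n : ℕ) (hn : n ∈ H) (m : ℕ) : (mon k n hn).1.coeff m = if n = m then 1 else 0 := coeff_monomial

theorem coeff_mon_mul (n : ℕ) (hn : n ∈ H) (f : ↥(sgRing k H)) (m : ℕ) :
    (mon k n hn * f).1.coeff m = if n ≤ m then f.1.coeff (m - n) else 0 := by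
  show (monomial n 1 * f.1).coeff m = _
  rw [← X_pow_eq_monomial, X_pow_mul, coeff_mul_X_pow']

theorem mem_span_mon_iff (f : ↥(sgRing k H)) :
    f ∈ Ideal.span {mon k h hh} ↔ ∀ n : ℕ, f.1.coeff n ≠ 0 → InH H ((n : ℤ) - h) := by
  rw [Ideal.mem_span_singleton']
  constructor
  · rintro ⟨g, rfl⟩ n hn
    rw [mul_comm, coeff_mon_mul] at hn
    split_ifs at hn with hle
    · exact ⟨n - h, g.2 _ hn, by omega⟩
    · exact absurd rfl hn
  · intro hf
    have hlow : ∀ n, n < h → f.1.coeff n = 0 := fun n hn => by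
      by_contra hne
      obtain ⟨a, -, ha⟩ := hf n hne
      omega
    obtain ⟨g, hg⟩ := Polynomial.X_pow_dvd_iff.2 hlow
    have hgm : g ∈ sgRing k H := fun n hn => by
      obtain ⟨a, ha, he⟩ := hf (h + n) (by
        rw [hg, X_pow_mul, coeff_mul_X_pow', if_pos (Nat.le_add_right h n), Nat.add_sub_cancel_left]
        exact hn)
      obtain rfl : a = n := by omega
      exact ha
    refine ⟨⟨g, hgm⟩, Subtype.ext ?_⟩
    show g * monomial h 1 = f.1
    rw [hg, ← X_pow_eq_monomial, mul_comm]

include hN hpos in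
theorem exists_pow_mem {f : ↥(sgRing k H)} (hf : f ∈ origin k H) : ∃ m : ℕ, f ^ m ∈ Ideal.span {mon k h hh} := by
  refine ⟨N + h, (mem_span_mon_iff k h hh _).2 fun n hn => ?_⟩
  have hdvd : X ^ (N + h) ∣ (f ^ (N + h)).1 := by
    rw [SubmonoidClass.coe_pow]
    exact pow_dvd_pow_of_dvd (Polynomial.X_dvd_iff.2 hf) _
  have hle : N + h ≤ n := by
    by_contra hlt
    exact hn (Polynomial.X_pow_dvd_iff.1 hdvd n (by omega))
  exact ⟨n - h, hN _ (by omega), by omega⟩

include hpos in
theorem span_le_origin : Ideal.span {mon k h hh} ≤ origin k H := by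
  rw [Ideal.span_le, Set.singleton_subset_iff, SetLike.mem_coe, origin, RingHom.mem_ker, ev0_apply, coeff_mon,
    if_neg (by omega)]

/-- The Artinian quotient. -/
abbrev Q : Type u := ↥(sgRing k H) ⧸ Ideal.span {mon k h hh}

include hN hpos in
theorem eq_map_origin (P : Ideal (Q k h hh)) [P.IsPrime] : P = (origin k H).map (Ideal.Quotient.mk _) := by
  have h1 : origin k H ≤ P.comap (Ideal.Quotient.mk _) := fun f hf => by
    obtain ⟨m, hm⟩ := exists_pow_mem k hN h hh hpos hf
    refine Ideal.IsPrime.mem_of_pow_mem inferInstance m (show Ideal.Quotient.mk _ (f ^ m) ∈ P from ?_)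
    rw [Ideal.Quotient.eq_zero_iff_mem.2 hm]
    exact zero_mem P
  have h2 : origin k H = P.comap (Ideal.Quotient.mk _) :=
    (inferInstance : (origin k H).IsMaximal).eq_of_le (Ideal.IsPrime.comap _).ne_top h1
  rw [h2, Ideal.map_comap_of_surjective _ Ideal.Quotient.mk_surjective]

include hN hpos in
theorem isLocalRing_Q : IsLocalRing (Q k h hh) := by
  haveI : Nontrivial (Q k h hh) :=
    Ideal.Quotient.nontrivial_iff.2 fun e => (inferInstance : (origin k H).IsMaximal).ne_top
      (top_le_iff.1 (e ▸ span_le_origin k h hh hpos))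
  exact isLocalRing_of_primes_eq ((origin k H).map (Ideal.Quotient.mk _)) fun P hP =>
    @eq_map_origin k _ H N hN h hh hpos P hP

include hN hpos in
theorem ringKrullDim_Q : ringKrullDim (Q k h hh) = 0 := by
  haveI := isLocalRing_Q k hN h hh hpos
  haveI : Ring.KrullDimLE 0 (Q k h hh) := Ring.KrullDimLE.mk₀ fun P hP => by
    have e : P = maximalIdeal (Q k h hh) :=
      (eq_map_origin k hN h hh hpos P).trans (eq_map_origin k hN h hh hpos (maximalIdeal (Q k h hh))).symm
    exact e ▸ maximalIdeal.isMaximal _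
  exact ringKrullDimZero_iff_ringKrullDim_eq_zero.1 inferInstance

include hN hpos in
theorem socSimple_iff [IsLocalRing (Q k h hh)] : Goren.SocSimple (Q k h hh) ↔ IsSym H := by
  rw [isSym_iff hN]
  have hmax : maximalIdeal (Q k h hh) = (origin k H).map (Ideal.Quotient.mk _) :=
    eq_map_origin k hN h hh hpos _
  have hkill : ∀ f : ↥(sgRing k H), (∀ x ∈ maximalIdeal (Q k h hh), x * Ideal.Quotient.mk _ f = 0) →
      ∀ n, f.1.coeff n ≠ 0 → ¬ InH H ((n : ℤ) - h) → IsPF H ((n : ℤ) - h) := by
    intro f hf n hn hnot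
    refine ⟨hnot, fun g hg hg0 => ?_⟩
    have hgm : mon k g hg ∈ origin k H := by
      rw [origin, RingHom.mem_ker, ev0_apply, coeff_mon, if_neg (by omega)]
    have h1 := hf _ (hmax ▸ Ideal.mem_map_of_mem _ hgm)
    rw [← map_mul, Ideal.Quotient.eq_zero_iff_mem, mem_span_mon_iff] at h1
    obtain ⟨a, ha, e⟩ := h1 (g + n) (by
      rw [coeff_mon_mul, if_pos (Nat.le_add_right g n), Nat.add_sub_cancel_left]
      exact hn)
    exact ⟨a, ha, by push_cast at e; omega⟩
  have hsoc : ∀ x, IsPF H x → ∃ (a : ℕ) (ha : a ∈ H), (a : ℤ) - h = x ∧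
      ∀ y ∈ maximalIdeal (Q k h hh), y * Ideal.Quotient.mk _ (mon k a ha) = 0 := by
    intro x hx
    obtain ⟨a, ha, hae⟩ := hx.2 h hh hpos
    refine ⟨a, ha, by omega, fun y hy => ?_⟩
    rw [hmax] at hy
    obtain ⟨f, hf, rfl⟩ := (Ideal.mem_map_iff_of_surjective _ Ideal.Quotient.mk_surjective).1 hy
    rw [← map_mul, Ideal.Quotient.eq_zero_iff_mem, mem_span_mon_iff, mul_comm]
    intro m hm
    rw [coeff_mon_mul] at hm
    split_ifs at hm with hle
    · have hg : m - a ∈ H := f.2 _ hm
      have hg0 : 0 < m - a := by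
        rcases Nat.eq_zero_or_pos (m - a) with e | e
        · exact absurd (by rw [e]; exact hf) hm
        · exact e
      obtain ⟨b, hb, hbe⟩ := hx.2 (m - a) hg hg0
      exact ⟨b, hb, by push_cast [Nat.cast_sub hle] at hbe; omega⟩
    · exact absurd rfl hm
  constructor
  · rintro ⟨s, hs0, hsm, hs⟩ x y hx hy
    obtain ⟨f, rfl⟩ := Ideal.Quotient.mk_surjective s
    have key : ∀ x, IsPF H x → ∃ (a : ℕ) (c : k), (a : ℤ) - h = x ∧
        ∀ n : ℕ, ¬ InH H ((n : ℤ) - h) → (if a = n then 1 else 0) = c * f.1.coeff n := by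
      intro x hx
      obtain ⟨a, ha, hae, hak⟩ := hsoc x hx
      obtain ⟨q, hq⟩ := Ideal.mem_span_singleton'.1 (hs _ hak)
      obtain ⟨q, rfl⟩ := Ideal.Quotient.mk_surjective q
      refine ⟨a, q.1.coeff 0, hae, fun n hn => ?_⟩
      let c : ↥(sgRing k H) := algebraMap k _ (q.1.coeff 0)
      have hqc : q - c ∈ origin k H := by
        rw [origin, RingHom.mem_ker, ev0_apply]
        simp [c, Polynomial.algebraMap_apply]
      have h2 : mon k a ha - c * f ∈ Ideal.span {mon k h hh} := by
        rw [← Ideal.Quotient.eq, ← hq, map_mul, ← sub_eq_zero, ← sub_mul, ← map_sub]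
        exact hsm _ (hmax ▸ Ideal.mem_map_of_mem _ hqc)
      by_contra hne
      refine hn ((mem_span_mon_iff k h hh _).1 h2 n ?_)
      have hc : (c * f).1.coeff n = q.1.coeff 0 * f.1.coeff n := by
        show (algebraMap k k[X] (q.1.coeff 0) * f.1).coeff n = _
        rw [Polynomial.algebraMap_apply, Algebra.algebraMap_self, RingHom.id_apply, coeff_C_mul]
      show ((mon k a ha).1 - (c * f).1).coeff n ≠ 0
      rw [coeff_sub, hc, coeff_mon]
      exact sub_ne_zero.2 hne
    obtain ⟨a, c, hae, ha⟩ := key x hx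
    obtain ⟨b, d, hbe, hb⟩ := key y hy
    by_contra hne
    have hab : a ≠ b := fun e => hne (by rw [← hae, ← hbe, e])
    have h1 := ha a (hae ▸ hx.1)
    have h2 := ha b (hbe ▸ hy.1)
    have h3 := hb b (hbe ▸ hy.1)
    rw [if_pos rfl] at h1 h3
    rw [if_neg hab] at h2
    rcases mul_eq_zero.1 h2.symm with e | e
    · rw [e, zero_mul] at h1
      exact one_ne_zero h1
    · rw [e, mul_zero] at h3
      exact one_ne_zero h3
  · intro huniq
    obtain ⟨F, hF, hgt⟩ := exists_frob hN
    have hPF : IsPF H F := ⟨hF, fun g _ hg => hgt _ (by omega)⟩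
    obtain ⟨a, ha, hae, hak⟩ := hsoc F hPF
    refine ⟨Ideal.Quotient.mk _ (mon k a ha), fun e => ?_, hak, fun q hq => ?_⟩
    · rw [Ideal.Quotient.eq_zero_iff_mem, mem_span_mon_iff] at e
      exact hF (hae ▸ e a (by rw [coeff_mon, if_pos rfl]; exact one_ne_zero))
    · obtain ⟨f, rfl⟩ := Ideal.Quotient.mk_surjective q
      let c : ↥(sgRing k H) := algebraMap k _ (f.1.coeff a)
      refine Ideal.mem_span_singleton'.2 ⟨Ideal.Quotient.mk _ c, ?_⟩
      rw [← map_mul, Ideal.Quotient.eq, mem_span_mon_iff]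
      intro n hn
      have hc : (c * mon k a ha).1.coeff n = f.1.coeff a * if a = n then 1 else 0 := by
        show (algebraMap k k[X] (f.1.coeff a) * monomial a 1).coeff n = _
        rw [Polynomial.algebraMap_apply, Algebra.algebraMap_self, RingHom.id_apply, coeff_C_mul, coeff_monomial]
      change ((c * mon k a ha).1 - f.1).coeff n ≠ 0 at hn
      rw [coeff_sub, hc] at hn
      by_contra hnot
      by_cases han : a = n
      · subst han
        exact hn (by simp)
      · rw [if_neg han, mul_zero, zero_sub, neg_ne_zero] at hn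
        have := huniq _ _ (hkill f hq n hn hnot) hPF
        omega

section Lift

theorem gor_congr {R : Type u} [CommRing R] {p q : Ideal R} [p.IsPrime] [q.IsPrime] (e : p = q)
    (h : LocCoh.IsGorensteinLocalRing (Localization.AtPrime p)) :
    LocCoh.IsGorensteinLocalRing (Localization.AtPrime q) := by
  subst e
  exact h

/-- Gorenstein lifts along a hypersurface. -/
theorem gor_lift {R S : Type u} [CommRing R] [IsNoetherianRing R] [CommRing S] (π : R →+* S)
    (hπ : Function.Surjective π) (f : R) (hker : RingHom.ker π = Ideal.span {f}) (hf : IsSMulRegular R f)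
    (P : Ideal S) [P.IsPrime] (hP : LocCoh.IsGorensteinLocalRing (Localization.AtPrime P)) :
    LocCoh.IsGorensteinLocalRing (Localization.AtPrime (P.comap π)) := by
  let e : R ⧸ Ideal.span {f} ≃+* S :=
    (Ideal.quotEquivOfEq hker.symm).trans (RingHom.quotientKerEquivOfSurjective hπ)
  let P' : Ideal (R ⧸ Ideal.span {f}) := P.comap (e : R ⧸ Ideal.span {f} →+* S)
  have h1 : LocCoh.IsGorensteinLocalRing (Localization.AtPrime P') :=
    (GrGor.gorenstein_equiv_prime e P).2 hP
  obtain ⟨φ⟩ := Goren.quot_localization R (Ideal.span {f}) P'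
  let p := P'.comap (Ideal.Quotient.mk (Ideal.span {f}))
  haveI : IsNoetherianRing (Localization.AtPrime p) := IsLocalization.isNoetherianRing p.primeCompl _ inferInstance
  have h2 := (Goren.gorenstein_equiv_iff φ).2 h1
  rw [Ideal.map_span, Set.image_singleton] at h2
  refine gor_congr (p := p) ?_ ((Goren.gorenstein_iff_quot _ ?_ ?_).2 h2)
  · rfl
  · refine (IsLocalization.AtPrime.to_map_mem_maximal_iff _ p f).2 ?_
    show Ideal.Quotient.mk (Ideal.span {f}) f ∈ P'
    rw [Ideal.Quotient.eq_zero_iff_mem.2 (Ideal.mem_span_singleton_self f)]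
    exact zero_mem _
  · exact hf.of_flat

/-- A local Gorenstein ring is a Gorenstein local ring. -/
theorem isGorensteinLocalRing_of_ring {A : Type u} [CommRing A] [IsLocalRing A] (h : LocCoh.IsGorensteinRing A) :
    LocCoh.IsGorensteinLocalRing A := by
  have hu : (maximalIdeal A).primeCompl ≤ IsUnit.submonoid A := fun x hx => not_not.1 hx
  exact (Goren.gorenstein_equiv_iff (IsLocalization.atUnits A (maximalIdeal A).primeCompl
    (S := Localization.AtPrime (maximalIdeal A)) hu).toRingEquiv).2 (h.isGorensteinLocalRing_localization _)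

/-- A Gorenstein local ring is Gorenstein at its maximal ideal. -/
theorem gor_atMax {A : Type u} [CommRing A] [IsLocalRing A] (h : LocCoh.IsGorensteinLocalRing A) :
    LocCoh.IsGorensteinLocalRing (Localization.AtPrime (maximalIdeal A)) := by
  have hu : (maximalIdeal A).primeCompl ≤ IsUnit.submonoid A := fun x hx => not_not.1 hx
  exact (Goren.gorenstein_equiv_iff (IsLocalization.atUnits A (maximalIdeal A).primeCompl
    (S := Localization.AtPrime (maximalIdeal A)) hu).toRingEquiv).1 h

/-- Lifting from a local hypersurface quotient. -/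
theorem gor_lift_quot {R : Type u} [CommRing R] [IsNoetherianRing R] (f : R) (hf : IsSMulRegular R f)
    [IsLocalRing (R ⧸ Ideal.span {f})] (hQ : LocCoh.IsGorensteinLocalRing (R ⧸ Ideal.span {f})) (q : Ideal R)
    [q.IsPrime] (hq : (maximalIdeal (R ⧸ Ideal.span {f})).comap (Ideal.Quotient.mk _) = q) :
    LocCoh.IsGorensteinLocalRing (Localization.AtPrime q) :=
  gor_congr hq (gor_lift _ Ideal.Quotient.mk_surjective f Ideal.mk_ker hf _ (gor_atMax hQ))

end Lift

include hN hh hpos in
/-- Gorenstein semigroup rings are symmetric. -/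
theorem isSym_of_gorenstein (hG : LocCoh.IsGorensteinRing ↥(sgRing k H)) : IsSym H := by
  haveI := hG
  haveI := isLocalRing_Q k hN h hh hpos
  have hne : mon k h hh ≠ 0 := fun e => by
    have := congrArg (fun p : ↥(sgRing k H) => p.1.coeff h) e
    rw [coeff_mon] at this
    simp at this
  have hQ := isGorensteinLocalRing_of_ring
    (Goren.isGorensteinRing_quot _ hG (mon k h hh) (IsSMulRegular.of_ne_zero hne))
  exact (socSimple_iff k hN h hh hpos).1 ((Goren.gorenstein_iff_socSimple _ (ringKrullDim_Q k hN h hh hpos)).1 hQ)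

include hN hh hpos in
/-- Symmetric semigroup rings are Gorenstein at the origin. -/
theorem gorenstein_origin [IsNoetherianRing ↥(sgRing k H)] (hs : IsSym H) :
    LocCoh.IsGorensteinLocalRing (Localization.AtPrime (origin k H)) := by
  haveI := isLocalRing_Q k hN h hh hpos
  have hQ := (Goren.gorenstein_iff_socSimple _ (ringKrullDim_Q k hN h hh hpos)).2
    ((socSimple_iff k hN h hh hpos).2 hs)
  have hne : mon k h hh ≠ 0 := fun e => by
    have := congrArg (fun p : ↥(sgRing k H) => p.1.coeff h) e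
    rw [coeff_mon] at this
    simp at this
  refine gor_lift_quot (mon k h hh) (IsSMulRegular.of_ne_zero hne) hQ (origin k H) ?_
  rw [eq_map_origin k hN h hh hpos (maximalIdeal (Q k h hh)),
    Ideal.comap_map_of_surjective _ Ideal.Quotient.mk_surjective, ← RingHom.ker, Ideal.mk_ker, sup_eq_left]
  exact span_le_origin k h hh hpos

end Groth.Agent.GorSect
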