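import Groth.Agent.GorSect.Semigroup
import Groth.Agent.SectRingLib.Main
import Groth.Agent.Goren.Apps

/-!
Gorenstein section rings of a point versus symmetric Weierstrass semigroups.
-/

set_option autoImplicit false
set_option linter.style.haveILetI false
set_option linter.unusedSectionVars false
set_option backward.isDefEq.respectTransparency false

universe u

open Polynomial IsLocalRing DirectSum
open _root_.FunFld _root_.W4c6gradedringsgw Groth.Agent.SectRingLib

namespace Groth.Agent.GorSect

variable {k : Type u} [Field k] {K : Type u} [Field K] [Algebra k K] [IsAlgClosed k]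
  (hK : IsFunctionField k K) (hg : 1 ≤ genus k K) (P : Place k K)

/-- The Weierstrass semigroup. -/
noncomputable abbrev HP : AddSubmonoid ℕ := AddSubmonoid.closure (poleOrders P)

include hK in
theorem mem_HP {n : ℕ} : n ∈ HP P ↔ n ∈ poleOrders P := Set.ext_iff.1 (closure_poleOrders hK P) n

include hK in
theorem large_mem {n : ℕ} (hn : 2 * genus k K + 1 ≤ n) : n ∈ HP P :=
  (mem_HP hK P).2 (mem_poleOrders_of_large hK P hn)

include hK in
theorem isSym_iff_isSymmetric : IsSym (HP P) ↔ IsSymmetric (poleOrders P) := by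
  refine exists_congr fun d => forall_congr' fun n => ?_
  have h : ∀ m : ℤ, InH (HP P) m ↔ ∃ h ∈ poleOrders P, (h : ℤ) = m := fun m =>
    exists_congr fun a => and_congr_left' (mem_HP hK P)
  rw [h, h]

/-- A homogeneous element. -/
noncomputable def hom (n : ℕ) (x : L ((n : ℤ) • pt P)) : ↥(sectRing (pt P)) :=
  ⟨monomial n x.1, monomial_mem P x.2⟩

theorem lead_mem_sgRing (p : ↥(sectRing (pt P))) : lead hK P p ∈ sgRing k (HP P) := fun n hn => by
  rw [coeff_lead] at hn
  exact (mem_HP hK P).2 (mem_of_phi_ne_zero hK P hn)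

/-- The reduction to the semigroup ring. -/
noncomputable def proj : ↥(sectRing (pt P)) →+* ↥(sgRing k (HP P)) :=
  ((lead hK P).codRestrict (sgRing k (HP P)) (lead_mem_sgRing hK P)).toRingHom

theorem proj_coe (p : ↥(sectRing (pt P))) : (proj hK P p).1 = lead hK P p := rfl

theorem proj_surjective : Function.Surjective (proj hK P) := by
  rintro ⟨f, hf⟩
  suffices h : f ∈ (lead hK P).range by
    obtain ⟨p, hp⟩ := h
    exact ⟨p, Subtype.ext hp⟩
  rw [f.as_sum_support]
  refine Subalgebra.sum_mem _ fun n hn => ?_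
  obtain ⟨x, hx⟩ := (mem_poleOrders_iff hK P).1 ((mem_HP hK P).1 (hf n (mem_support_iff.1 hn)))
  refine ⟨hom P n (f.coeff n • x), ?_⟩
  show lead hK P _ = monomial n (f.coeff n)
  rw [hom, lead_monomial, map_smul, hx, smul_eq_mul, mul_one]

theorem one_mem_L : (1 : K) ∈ L (((1 : ℕ) : ℤ) • pt P) := by
  intro Q
  rw [map_one, ← WithZero.exp_zero, WithZero.exp_le_exp]
  rcases eq_or_ne Q P with rfl | hQ
  · rw [smul_pt_self]
    norm_num
  · rw [smul_pt_ne hQ]

/-- The element `T`. -/
noncomputable def tT : ↥(sectRing (pt P)) := hom P 1 ⟨1, one_mem_L P⟩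

theorem tT_coe : (tT P).1 = (X : K[X]) := monomial_one_one_eq_X

theorem tT_ne_zero : tT P ≠ 0 := fun e => X_ne_zero (R := K) ((tT_coe P).symm.trans (congrArg Subtype.val e))

include hK in
theorem eq_zero_of_mem_L_neg {x : K} (hx0 : x ∈ L (((0 : ℕ) : ℤ) • pt P))
    (hx : x ∈ L ((((0 : ℕ) : ℤ) - 1) • pt P)) : x = 0 := by
  by_contra hne
  obtain ⟨d, hd⟩ : ∃ d : k, x = algebraMap k K d := by
    rw [show ((0 : ℕ) : ℤ) • pt P = 0 by simp, FunFld.L_zero hK, Submodule.mem_one] at hx0
    exact hx0.imp fun _ e => e.symm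
  have := hx P
  rw [smul_pt_self, hd, FunFld.val_algebraMap P (fun e => hne (by rw [hd, e, map_zero])),
    ← WithZero.exp_zero, WithZero.exp_le_exp] at this
  omega

theorem ker_proj : RingHom.ker (proj hK P) = Ideal.span {tT P} := by
  refine le_antisymm (fun p hp => ?_) ?_
  · have hcoe : ∀ n : ℕ, p.1.coeff n ∈ L (((n : ℤ) - 1) • pt P) := fun n => by
      have := congrArg (fun q : ↥(sgRing k (HP P)) => q.1.coeff n) (RingHom.mem_ker.1 hp)
      simp only [proj_coe, coeff_lead, ZeroMemClass.coe_zero, coeff_zero] at this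
      exact (phi_eq_zero_iff hK P _).1 this
    have hd : p.1.divX ∈ sectRing (pt P) := fun n => by
      rw [coeff_divX]
      simpa using hcoe (n + 1)
    refine Ideal.mem_span_singleton.2 ⟨⟨_, hd⟩, Subtype.ext ?_⟩
    show p.1 = (tT P).1 * p.1.divX
    rw [tT_coe]
    conv_lhs => rw [← X_mul_divX_add p.1, eq_zero_of_mem_L_neg hK P (p.2 0) (hcoe 0), map_zero, add_zero]
  · rw [Ideal.span_le, Set.singleton_subset_iff, SetLike.mem_coe, RingHom.mem_ker]
    refine Subtype.ext ?_
    show lead hK P (tT P) = 0
    rw [tT, hom, lead_monomial, (phi_eq_zero_iff hK P _).2, map_zero]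
    intro Q
    simp

include hK in
theorem finiteType : Algebra.FiniteType k ↥(sectRing (pt P)) := by
  classical
  set B := 2 * genus k K + 1 with hB
  have hy : ∀ n : ℕ, ∃ x : L ((n : ℤ) • pt P), n ∈ poleOrders P → phi hK P n x = 1 := fun n => by
    by_cases h : n ∈ poleOrders P
    · obtain ⟨x, hx⟩ := (mem_poleOrders_iff hK P).1 h
      exact ⟨x, fun _ => hx⟩
    · exact ⟨0, fun h' => absurd h' h⟩
  choose y hy using hy
  let G : Finset ↥(sectRing (pt P)) := insert (tT P) ((Finset.range (2 * B + 1)).image fun n => hom P n (y n))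
  let A := Algebra.adjoin k (G : Set ↥(sectRing (pt P)))
  have hgen : ∀ n, n ∈ poleOrders P → ∃ z : L ((n : ℤ) • pt P), phi hK P n z = 1 ∧ hom P n z ∈ A := by
    intro n
    induction n using Nat.strong_induction_on with
    | _ n ih =>
      intro hn
      by_cases hle : n ≤ 2 * B
      · exact ⟨y n, hy n hn, Algebra.subset_adjoin (Finset.mem_insert_of_mem
          (Finset.mem_image.2 ⟨n, Finset.mem_range.2 (by omega), rfl⟩))⟩
      · obtain ⟨u, hu, huA⟩ := ih B (by omega) (mem_poleOrders_of_large hK P le_rfl)
        obtain ⟨v, hv, hvA⟩ := ih (n - B) (by omega) (mem_poleOrders_of_large hK P (by omega))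
        have huv : u.1 * v.1 ∈ L ((n : ℤ) • pt P) := by
          have h := W4c6gradedringsgw.mul_mem_L u.2 v.2
          rwa [← add_smul, ← Nat.cast_add, show B + (n - B) = n by omega] at h
        refine ⟨⟨_, huv⟩, by rw [phi_mul hK P (by omega) u v huv, hu, hv, one_mul], ?_⟩
        have h2 := mul_mem huA hvA
        rwa [show hom P B u * hom P (n - B) v = hom P n ⟨_, huv⟩ from Subtype.ext (by
          show monomial B u.1 * monomial (n - B) v.1 = monomial n (u.1 * v.1)
          rw [monomial_mul_monomial, show B + (n - B) = n by omega])] at h2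
  have hall : ∀ (n : ℕ) (x : L ((n : ℤ) • pt P)), hom P n x ∈ A := by
    intro n
    induction n using Nat.strong_induction_on with
    | _ n ih =>
      intro x
      obtain ⟨z, hzA, hz⟩ : ∃ z : L ((n : ℤ) • pt P), hom P n z ∈ A ∧ phi hK P n z = phi hK P n x := by
        by_cases h0 : phi hK P n x = 0
        · refine ⟨0, ?_, by rw [map_zero, h0]⟩
          rw [show hom P n 0 = 0 from Subtype.ext (by simp [hom])]
          exact zero_mem A
        · obtain ⟨z, hz, hzA⟩ := hgen n (mem_of_phi_ne_zero hK P h0)
          refine ⟨phi hK P n x • z, ?_, by rw [map_smul, hz, smul_eq_mul, mul_one]⟩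
          rw [show hom P n (phi hK P n x • z) = phi hK P n x • hom P n z from Subtype.ext (by
            show monomial n (phi hK P n x • z.1) = phi hK P n x • monomial n z.1
            rw [smul_monomial])]
          exact A.smul_mem hzA _
      have hd : (x - z).1 ∈ L (((n : ℤ) - 1) • pt P) :=
        (phi_eq_zero_iff hK P _).1 (by rw [map_sub, hz, sub_self])
      rw [show hom P n x = hom P n z + hom P n (x - z) from Subtype.ext (by
        show monomial n x.1 = monomial n z.1 + monomial n (x.1 - z.1)
        rw [← map_add, add_sub_cancel])]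
      refine add_mem hzA ?_
      rcases Nat.eq_zero_or_pos n with rfl | hn
      · rw [show hom P 0 (x - z) = 0 from Subtype.ext (by
          show monomial 0 (x - z).1 = 0
          rw [eq_zero_of_mem_L_neg hK P (x - z).2 hd, map_zero])]
        exact zero_mem A
      · have hd' : (x - z).1 ∈ L (((n - 1 : ℕ) : ℤ) • pt P) := by
          rwa [Nat.cast_sub hn, Nat.cast_one]
        rw [show hom P n (x - z) = tT P * hom P (n - 1) ⟨_, hd'⟩ from Subtype.ext (by
          show monomial n (x - z).1 = (tT P).1 * monomial (n - 1) (x - z).1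
          rw [tT_coe, X_mul_monomial, Nat.sub_add_cancel hn])]
        exact mul_mem (Algebra.subset_adjoin (Finset.mem_insert_self _ _)) (ih (n - 1) (by omega) _)
  refine ⟨⟨G, top_le_iff.1 fun p _ => ?_⟩⟩
  rw [show p = ∑ n ∈ p.1.support, hom P n ⟨_, p.2 n⟩ from Subtype.ext (by
    rw [AddSubmonoidClass.coe_finsetSum]
    exact p.1.as_sum_support)]
  exact Subalgebra.sum_mem _ fun n _ => hall n _

/-- The grading. -/
def piece (i : ℤ) : AddSubgroup ↥(sectRing (pt P)) where
  carrier := {p | ∀ n, p.1.coeff n ≠ 0 → (n : ℤ) = i}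
  add_mem' {p q} hp hq n hn := by
    rw [AddMemClass.coe_add, coeff_add] at hn
    by_contra hc
    exact hn (by rw [not_not.1 (mt (hp n) hc), not_not.1 (mt (hq n) hc), add_zero])
  zero_mem' n hn := absurd (coeff_zero n) hn
  neg_mem' {p} hp n hn := hp n (by
    rw [NegMemClass.coe_neg, coeff_neg, neg_ne_zero] at hn
    exact hn)

instance : SetLike.GradedMonoid (piece (k := k) P) where
  one_mem n hn := by
    rw [OneMemClass.coe_one, coeff_one] at hn
    split_ifs at hn with h
    · simp [h]
    · exact absurd rfl hn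
  mul_mem i j p q hp hq n hn := by
    rw [MulMemClass.coe_mul, coeff_mul] at hn
    obtain ⟨x, hx, hne⟩ := Finset.exists_ne_zero_of_sum_ne_zero hn
    obtain ⟨h1, h2⟩ := mul_ne_zero_iff.1 hne
    have := Finset.HasAntidiagonal.mem_antidiagonal.1 hx
    rw [← hp _ h1, ← hq _ h2, ← this]
    push_cast
    rfl

theorem hom_mem_piece (n : ℕ) (x : L ((n : ℤ) • pt P)) : hom P n x ∈ piece P (n : ℤ) := fun m hm => by
  change (monomial n x.1).coeff m ≠ 0 at hm
  rw [coeff_monomial] at hm
  split_ifs at hm with h
  · rw [h]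
  · exact absurd rfl hm

/-- The decomposition. -/
noncomputable def dec (p : ↥(sectRing (pt P))) : ⨁ i, piece P i :=
  ∑ n ∈ p.1.support, DirectSum.of (fun i => piece P i) (n : ℤ) ⟨hom P n ⟨_, p.2 n⟩, hom_mem_piece P n _⟩

theorem coe_dec (p : ↥(sectRing (pt P))) : DirectSum.coeAddMonoidHom (piece P) (dec P p) = p := by
  rw [dec, map_sum]
  simp only [DirectSum.coeAddMonoidHom_of]
  refine Subtype.ext ?_
  rw [AddSubmonoidClass.coe_finsetSum]
  exact p.1.as_sum_support.symm

theorem coe_injective : Function.Injective (DirectSum.coeAddMonoidHom (piece (k := k) P)) := by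
  classical
  refine (injective_iff_map_eq_zero _).2 fun x hx => DFunLike.ext _ _ fun i => Subtype.ext (Subtype.ext ?_)
  have key : ∀ (y : ⨁ i, piece (k := k) P i) (m : ℕ),
      (DirectSum.coeAddMonoidHom (piece P) y).1.coeff m = (y (m : ℤ)).1.1.coeff m := by
    intro y m
    induction y using DirectSum.induction_on with
    | zero => simp
    | of j z =>
      rw [DirectSum.coeAddMonoidHom_of]
      by_cases hj : j = (m : ℤ)
      · subst hj
        rw [DirectSum.of_eq_same]
      · rw [DirectSum.of_eq_of_ne _ _ _ (Ne.symm hj), ZeroMemClass.coe_zero, ZeroMemClass.coe_zero, coeff_zero]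
        by_contra hne
        exact hj (z.2 m hne).symm
    | add a b ha hb => simp [ha, hb]
  ext m
  show (x i).1.1.coeff m = _
  rw [DirectSum.zero_apply, ZeroMemClass.coe_zero, ZeroMemClass.coe_zero, coeff_zero]
  by_contra hne
  obtain rfl := (x i).2 m hne
  exact hne (by rw [← key, hx, ZeroMemClass.coe_zero, coeff_zero])

noncomputable instance : DirectSum.Decomposition (piece (k := k) P) where
  decompose' := dec P
  left_inv p := coe_dec P p
  right_inv x := coe_injective P (coe_dec P _)

noncomputable instance : GradedRing (piece (k := k) P) where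

/-- The irrelevant ideal. -/
noncomputable def irr : Ideal ↥(sectRing (pt P)) := (origin k (HP P)).comap (proj hK P)

instance : (irr hK P).IsPrime := Ideal.IsPrime.comap _

theorem mem_irr_iff (p : ↥(sectRing (pt P))) : p ∈ irr hK P ↔ p.1.coeff 0 = 0 := by
  rw [irr, Ideal.mem_comap, origin, RingHom.mem_ker, ev0_apply, proj_coe, coeff_lead, phi_eq_zero_iff]
  exact ⟨fun h => eq_zero_of_mem_L_neg hK P (p.2 0) h, fun h => by
    show p.1.coeff 0 ∈ _
    rw [h]
    exact zero_mem _⟩

include hK hg in
/-- The main theorem. -/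
theorem gorenstein_iff : LocCoh.IsGorensteinRing ↥(sectRing (pt P)) ↔ IsSymmetric (poleOrders P) := by
  haveI := finiteType hK P
  haveI : IsNoetherianRing ↥(sectRing (pt P)) := Algebra.FiniteType.isNoetherianRing k _
  haveI : IsNoetherianRing ↥(sgRing k (HP P)) :=
    isNoetherianRing_of_surjective _ _ (proj hK P) (proj_surjective hK P)
  let e : (↥(sectRing (pt P)) ⧸ Ideal.span {tT P}) ≃+* ↥(sgRing k (HP P)) :=
    (Ideal.quotEquivOfEq (ker_proj hK P).symm).trans (RingHom.quotientKerEquivOfSurjective (proj_surjective hK P))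
  have hN : ∀ n, 2 * genus k K + 1 ≤ n → n ∈ HP P := fun n hn => large_mem hK P hn
  have hh := hN (2 * genus k K + 1) le_rfl
  have ht : IsSMulRegular ↥(sectRing (pt P)) (tT P) := IsSMulRegular.of_ne_zero (tT_ne_zero P)
  constructor
  · intro hG
    exact (isSym_iff_isSymmetric hK P).1 (isSym_of_gorenstein k hN _ hh (Nat.succ_pos _)
      (Goren.isGorensteinRing_of_equiv _ _ e (Goren.isGorensteinRing_quot _ hG (tT P) ht)))
  · intro hs
    have hm : LocCoh.IsGorensteinLocalRing (Localization.AtPrime (irr hK P)) :=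
      gor_lift (proj hK P) (proj_surjective hK P) (tT P) (ker_proj hK P) ht _
        (gorenstein_origin k hN _ hh (Nat.succ_pos _) ((isSym_iff_isSymmetric hK P).2 hs))
    refine { isGorensteinLocalRing_localization := fun q hq => ?_ }
    haveI := hm
    haveI hc : (Ideal.homogeneousCore (piece P) q).toIdeal.IsPrime := hq.homogeneousCore
    refine GrGor.gorenstein_of_core (piece P) q ?_
    refine GrGor.gorenstein_of_disjoint (T := Localization.AtPrime (irr hK P)) (irr hK P).primeCompl
      (Goren.isGorensteinRing_of_local _) _ (Set.disjoint_left.2 fun p hp hpq => hp ?_)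
    rw [SetLike.mem_coe, mem_irr_iff]
    by_contra h0
    obtain ⟨c, hc0⟩ : ∃ c : k, p.1.coeff 0 = algebraMap k K c := by
      have := p.2 0
      rw [show ((0 : ℕ) : ℤ) • pt P = 0 by simp, FunFld.L_zero hK, Submodule.mem_one] at this
      exact this.imp fun _ e => e.symm
    have hmem := (Ideal.homogeneousCore (piece P) q).isHomogeneous 0 hpq
    have hproj : ((DirectSum.decompose (piece P) p 0 : piece P 0) : ↥(sectRing (pt P))) = algebraMap k _ c := by
      refine Subtype.ext (Polynomial.ext fun m => ?_)
      show ((dec P p 0 : piece P 0) : ↥(sectRing (pt P))).1.coeff m = _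
      have hd := (dec P p 0).2 m
      rcases Nat.eq_zero_or_pos m with rfl | hm0
      · have h1 := congrArg (fun r : ↥(sectRing (pt P)) => r.1.coeff 0) (coe_dec P p)
        simp only [dec, map_sum, DirectSum.coeAddMonoidHom_of] at h1
        have h2 : ∀ y : ⨁ i, piece (k := k) P i,
            (DirectSum.coeAddMonoidHom (piece P) y).1.coeff 0 = (y 0).1.1.coeff 0 := by
          intro y
          induction y using DirectSum.induction_on with
          | zero => simp
          | of j z =>
            rw [DirectSum.coeAddMonoidHom_of]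
            by_cases hj : j = 0
            · subst hj
              rw [DirectSum.of_eq_same]
            · rw [DirectSum.of_eq_of_ne _ _ _ (Ne.symm hj), ZeroMemClass.coe_zero, ZeroMemClass.coe_zero, coeff_zero]
              by_contra hne
              exact hj (z.2 0 hne).symm
          | add a b ha hb => simp [ha, hb]
        rw [← h2, coe_dec, hc0]
        simp [Polynomial.algebraMap_apply]
      · have h3 : ((dec P p 0 : piece P 0) : ↥(sectRing (pt P))).1.coeff m = 0 := by
          by_contra hne
          have := hd hne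
          omega
        rw [h3]
        simp [Polynomial.algebraMap_apply, coeff_C, hm0.ne']
    have hne : c ≠ 0 := fun e => h0 (by rw [hc0, e, map_zero])
    refine hc.ne_top (Ideal.eq_top_of_isUnit_mem _ (hproj ▸ hmem) ?_)
    exact (isUnit_iff_ne_zero.2 hne).map (algebraMap k ↥(sectRing (pt P)))

end Groth.Agent.GorSect
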